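import Mathlib

/-!
# Orders of elements of commutator subgroups of odd-dimensional orthogonal groups

In dimension `2m+3`, `m ≥ 2`, odd characteristic `p`, an isometry of order `p (q^m + 1)` and determinant `1` induces an
odd permutation on the vectors of one non-zero value, hence is not in the commutator subgroup.
-/

set_option autoImplicit false
set_option linter.unusedSectionVars false

namespace CfsgLib.OrthOrders

open Module

variable {F V : Type*} [Field F] [Fintype F] [AddCommGroup V] [Module F V] [FiniteDimensional F V]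

theorem polar_self2 (Q : QuadraticForm F V) (x : V) : QuadraticMap.polar Q x x = 2 * Q x := by
  rw [QuadraticMap.polar_self, nsmul_eq_mul]
  norm_num

theorem polar_map (Q : QuadraticForm F V) (A : End F V) (h : ∀ x, Q (A x) = Q x) (x y : V) :
    QuadraticMap.polar Q (A x) (A y) = QuadraticMap.polar Q x y := by
  simp only [QuadraticMap.polar, ← map_add, h]

section decomposition

variable (T : End F V)

/-- The fixed space. -/
abbrev fixSp : Submodule F V := LinearMap.ker (T - 1)

/-- The moved space. -/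
abbrev movSp : Submodule F V := LinearMap.range (T - 1)

theorem mem_fixSp {x : V} : x ∈ fixSp T ↔ T x = x := by
  simp [fixSp, sub_eq_zero]

theorem isCompl_fix_mov {r : ℕ} (hT : T ^ r = 1) (hr : (r : F) ≠ 0) : IsCompl (fixSp T) (movSp T) := by
  have hd : Disjoint (fixSp T) (movSp T) := by
    rw [Submodule.disjoint_def]
    rintro x hx ⟨y, rfl⟩
    rw [mem_fixSp] at hx
    have h : ∀ i : ℕ, (T ^ i) y = y + (i : F) • (T - 1) y := by
      intro i
      induction i with
      | zero => simp
      | succ i ih =>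
        rw [pow_succ', Module.End.mul_apply, ih, map_add, map_smul, hx, LinearMap.sub_apply, Module.End.one_apply,
          Nat.cast_succ, add_smul, one_smul]
        abel
    have h1 := h r
    rw [hT, Module.End.one_apply] at h1
    have h2 : (r : F) • (T - 1) y = 0 := add_eq_left.mp h1.symm
    exact (smul_eq_zero.mp h2).resolve_left hr
  refine ⟨hd, codisjoint_iff.mpr (Submodule.eq_top_of_finrank_eq ?_)⟩
  have h1 := Submodule.finrank_sup_add_finrank_inf_eq (fixSp T) (movSp T)
  rw [hd.eq_bot, finrank_bot, add_zero] at h1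
  rw [h1, add_comm, LinearMap.finrank_range_add_finrank_ker]

theorem polar_fix_mov (Q : QuadraticForm F V) (h : ∀ x, Q (T x) = Q x) {x y : V} (hx : x ∈ fixSp T)
    (hy : y ∈ movSp T) : QuadraticMap.polar Q x y = 0 := by
  rw [mem_fixSp] at hx
  obtain ⟨z, rfl⟩ := hy
  rw [LinearMap.sub_apply, Module.End.one_apply, QuadraticMap.polar_sub_right]
  nth_rewrite 1 [← hx]
  rw [polar_map Q T h, sub_self]

/-- Invariant subspaces meeting the fixed space trivially have dimension a multiple of the order of `q` mod `r`. -/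
theorem order_dvd_finrank {r : ℕ} [Fact r.Prime] (hT : T ^ r = 1) (X : Submodule F V) (hX : ∀ x ∈ X, T x ∈ X)
    (hfix : ∀ x ∈ X, T x = x → x = 0) : orderOf (Fintype.card F : ZMod r) ∣ finrank F X := by
  classical
  have : Finite V := Module.finite_of_finite F
  let _ : Fintype X := Fintype.ofFinite _
  have hinj : Function.Injective fun x : X => (⟨T x, hX x x.2⟩ : X) := by
    intro x y h
    have h1 : T x.1 = T y.1 := congrArg Subtype.val h
    have h2 := congrArg (T ^ (r - 1)) h1
    rw [← Module.End.mul_apply, ← Module.End.mul_apply, ← pow_succ,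
      Nat.sub_add_cancel (Fact.out (p := r.Prime)).one_le, hT] at h2
    exact Subtype.ext h2
  let π : Equiv.Perm X := Equiv.ofBijective _ (Finite.injective_iff_bijective.mp hinj)
  have hπ : ∀ (i : ℕ) (x : X), ((π ^ i) x : V) = (T ^ i) x := by
    intro i
    induction i with
    | zero => intro x; rfl
    | succ i ih => intro x; rw [pow_succ', pow_succ', Equiv.Perm.mul_apply, Module.End.mul_apply, ← ih x]; rfl
  have hπr : π ^ r ^ 1 = 1 := Equiv.ext fun x => Subtype.ext (by rw [hπ, pow_one, hT]; rfl)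
  have h := Equiv.Perm.card_compl_support_modEq hπr
  have hsupp : π.supportᶜ = {0} := by
    ext x
    rw [Finset.mem_compl, Equiv.Perm.mem_support, not_not, Finset.mem_singleton]
    constructor
    · exact fun hx => Subtype.ext (hfix x x.2 (congrArg Subtype.val hx))
    · rintro rfl
      exact Subtype.ext (map_zero T)
  rw [hsupp, Finset.card_singleton, Module.card_eq_pow_finrank (K := F) (V := X)] at h
  rw [orderOf_dvd_iff_pow_eq_one, ← Nat.cast_pow, ← Nat.cast_one, ZMod.natCast_eq_natCast_iff]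
  exact h.symm

/-- The restriction of a hom to an invariant subspace. -/
def resHom {G : Type*} [Monoid G] (Φ : G →* End F V) (X : Submodule F V) (h : ∀ g, ∀ x ∈ X, Φ g x ∈ X) :
    G →* End F X where
  toFun g := (Φ g).restrict (h g)
  map_one' := LinearMap.ext fun x => Subtype.ext (by simp)
  map_mul' g g' := LinearMap.ext fun x => Subtype.ext (by simp)

theorem resHom_apply {G : Type*} [Monoid G] (Φ : G →* End F V) (X : Submodule F V)
    (h : ∀ g, ∀ x ∈ X, Φ g x ∈ X) (g : G) (x : X) : (resHom Φ X h g x : V) = Φ g x.1 := rfl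

end decomposition

/-- A non-trivial unipotent isometry of a three-dimensional space has `(u - 1)^2 ≠ 0` and `(u - 1)^3 = 0`. -/
theorem regular_of_unipotent {U : Type*} [AddCommGroup U] [Module F U] [FiniteDimensional F U]
    (β : U → U → F) (hβadd : ∀ x y z, β (x + y) z = β x z + β y z)
    (hβsmul : ∀ (a : F) x y, β (a • x) y = a * β x y) (hβsymm : ∀ x y, β x y = β y x)
    (hβnd : ∀ x, (∀ y, β x y = 0) → x = 0) (h2 : (2 : F) ≠ 0) (hU : finrank F U = 3) (u : End F U)
    (hu : ∀ x y, β (u x) (u y) = β x y) (hnil : IsNilpotent (u - 1)) (hne : u ≠ 1) :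
    (u - 1) * (u - 1) ≠ 0 ∧ (u - 1) ^ 3 = 0 := by
  set M := u - 1 with hM
  refine ⟨fun hMM => ?_, ?_⟩
  · have hle : LinearMap.range M ≤ LinearMap.ker M := by
      rintro _ ⟨y, rfl⟩
      exact LinearMap.congr_fun hMM y
    have h3 := LinearMap.finrank_range_add_finrank_ker M
    have h4 := Submodule.finrank_mono hle
    have h1 : finrank F (LinearMap.range M) ≤ 1 := by omega
    have hM0 : M ≠ 0 := sub_ne_zero.mpr hne
    obtain ⟨x₀, hx₀⟩ : ∃ x, M x ≠ 0 := by
      by_contra h
      push Not at h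
      exact hM0 (LinearMap.ext h)
    set v := M x₀ with hv
    have hspan : ∀ y, ∃ a : F, M y = a • v := by
      intro y
      obtain ⟨w, hw⟩ := (finrank_le_one_iff (K := F) (V := LinearMap.range M)).mp h1
      obtain ⟨a, ha⟩ := hw ⟨v, LinearMap.mem_range_self M x₀⟩
      obtain ⟨b, hb⟩ := hw ⟨M y, LinearMap.mem_range_self M y⟩
      have ha' : a • (w : U) = v := congrArg Subtype.val ha
      have hb' : b • (w : U) = M y := congrArg Subtype.val hb
      have ha0 : a ≠ 0 := fun h0 => hx₀ (by rw [← ha', h0, zero_smul])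
      exact ⟨b / a, by rw [← hb', ← ha', smul_smul, div_mul_cancel₀ b ha0]⟩
    have hux : ∀ x, u x = x + M x := fun x => by simp [hM]
    have hadd' : ∀ x y z, β x (y + z) = β x y + β x z := fun x y z => by
      rw [hβsymm, hβadd, hβsymm y, hβsymm z]
    have hsmul' : ∀ (a : F) x y, β x (a • y) = a * β x y := fun a x y => by
      rw [hβsymm, hβsmul, hβsymm y]
    have key : ∀ x y, β (M x) y + β x (M y) + β (M x) (M y) = 0 := fun x y => by
      have := hu x y
      rw [hux, hux, hβadd, hadd', hadd'] at this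
      linear_combination this
    have hMv : M v = 0 := LinearMap.congr_fun hMM x₀
    have hz : ∀ x, β x 0 = 0 := fun x => by simpa using hsmul' 0 x 0
    have hvv : β v v = 0 := by
      have := key x₀ v
      rw [hMv, hz, hz, add_zero, add_zero] at this
      exact this
    have hvx : ∀ x, M x ≠ 0 → β v x = 0 := by
      intro x hx
      obtain ⟨a, ha⟩ := hspan x
      have := key x x
      rw [ha, hβsmul, hsmul', hβsmul, hsmul', hvv, hβsymm x v] at this
      have ha0 : a ≠ 0 := fun h0 => hx (by rw [ha, h0, zero_smul])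
      have h5 : (2 : F) * (a * β v x) = 0 := by linear_combination this
      simpa [h2, ha0] using h5
    refine hx₀ (hβnd v fun y => ?_)
    by_cases hy : M y = 0
    · have h6 := hvx (y + x₀) (by rw [map_add, hy, zero_add]; exact hx₀)
      rw [hadd', hvx x₀ hx₀, add_zero] at h6
      exact h6
    · exact hvx y hy
  · have h := (LinearMap.isNilpotent_iff_charpoly M).mp hnil
    have h0 := M.aeval_self_charpoly
    rwa [h, hU, map_pow, Polynomial.aeval_X] at h0

/-- Endomorphisms commuting with a regular nilpotent one of a three-dimensional space are polynomials in it. -/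
theorem commutant_regular {U : Type*} [AddCommGroup U] [Module F U] [FiniteDimensional F U]
    (hU : finrank F U = 3) (M : End F U) (h2 : M * M ≠ 0) (h3 : M ^ 3 = 0) (A : End F U)
    (hA : A * M = M * A) : ∃ a b c : F, A = a • 1 + M * (b • 1 + c • M) := by
  obtain ⟨x₀, hx₀⟩ : ∃ x, M (M x) ≠ 0 := by
    by_contra h
    push Not at h
    exact h2 (LinearMap.ext h)
  have hMMM : ∀ x, M (M (M x)) = 0 := fun x => by
    have := LinearMap.congr_fun h3 x
    rwa [pow_succ, pow_two] at this
  let L : (Fin 3 → F) →ₗ[F] U :=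
    { toFun := fun v => v 0 • x₀ + v 1 • M x₀ + v 2 • M (M x₀)
      map_add' := fun v w => by simp only [Pi.add_apply, add_smul]; abel
      map_smul' := fun a v => by simp only [Pi.smul_apply, smul_eq_mul, RingHom.id_apply, smul_add, smul_smul] }
  have hinj : Function.Injective L := by
    rw [← LinearMap.ker_eq_bot, LinearMap.ker_eq_bot']
    intro v hv
    have e0 : v 0 = 0 := by
      have := congrArg (fun z => M (M z)) hv
      simpa [L, hMMM, hx₀] using this
    have e1 : v 1 = 0 := by
      have := congrArg M hv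
      simpa [L, hMMM, hx₀, e0] using this
    have e2 : v 2 = 0 := by simpa [L, hx₀, e0, e1] using hv
    ext i; fin_cases i <;> assumption
  have hsurj := (LinearMap.injective_iff_surjective_of_finrank_eq_finrank (by rw [Module.finrank_fin_fun, hU])).mp hinj
  obtain ⟨v, hv⟩ := hsurj (A x₀)
  refine ⟨v 0, v 1, v 2, LinearMap.ext fun y => ?_⟩
  obtain ⟨w, rfl⟩ := hsurj y
  have hAM : ∀ z, A (M z) = M (A z) := fun z => LinearMap.congr_fun hA z
  simp only [L, LinearMap.coe_mk, AddHom.coe_mk] at hv ⊢
  simp only [map_add, map_smul, hAM, ← hv, LinearMap.add_apply, LinearMap.smul_apply, Module.End.one_apply,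
    Module.End.mul_apply, hMMM, smul_zero, add_zero]
  module

/-- The sign of a permutation all of whose non-trivial orbits have the same even length. -/
theorem sign_of_semiregular {α : Type*} [Fintype α] [DecidableEq α] (π : Equiv.Perm α) {N k : ℕ} (hN : 0 < N)
    (hNeven : Even N) (hπN : π ^ N = 1) (hfree : ∀ x, π x ≠ x → ∀ l, (π ^ l) x = x → N ∣ l)
    (hk : Nat.card {x // π x ≠ x} = N * k) : Equiv.Perm.sign π = (-1) ^ k := by
  have hct : π.cycleType = Multiset.replicate π.cycleType.card N := by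
    refine Multiset.eq_replicate_card.mpr fun l hl => ?_
    have hlN : l ∣ N := (Equiv.Perm.dvd_of_mem_cycleType hl).trans (orderOf_dvd_of_pow_eq_one hπN)
    obtain ⟨c, τ, hπ, hd, hc, rfl⟩ := Equiv.Perm.mem_cycleType_iff.mp hl
    obtain ⟨x, hx⟩ := hc.nonempty_support
    have hxτ : τ x = x := (hd x).resolve_left (Equiv.Perm.mem_support.mp hx)
    have hpow : ∀ i : ℕ, (π ^ i) x = (c ^ i) x := fun i => by
      rw [hπ, hd.commute.mul_pow, Equiv.Perm.mul_apply, Equiv.Perm.pow_apply_eq_self_of_apply_eq_self hxτ]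
    refine Nat.dvd_antisymm hlN (hfree x ?_ _ ?_)
    · have := hpow 1
      rw [pow_one, pow_one] at this
      rw [this]
      exact Equiv.Perm.mem_support.mp hx
    · rw [hpow, ← hc.orderOf, pow_orderOf_eq_one, Equiv.Perm.one_apply]
  rw [Equiv.Perm.sign_of_cycleType_eq_replicate hN hct, if_neg (Nat.not_odd_iff_even.mpr hNeven)]
  congr 1
  have hfix : Fintype.card α - Fintype.card (Function.fixedPoints π) = Nat.card {x // π x ≠ x} := by
    rw [Nat.card_eq_fintype_card, Fintype.card_subtype_compl]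
    rfl
  rw [hfix, hk, Nat.mul_div_cancel_left _ hN]

/-- Fibres of `T (l ^ N)` on a field with `q^(2m)` elements. -/
theorem norm_fibre_count {K : Type*} [Field K] [Fintype K] [Algebra F K] {m : ℕ}
    (hK : Fintype.card K = Fintype.card F ^ (2 * m)) (hm : 1 ≤ m) (T : K →ₗ[F] F)
    (hT : ∃ x : K, x ^ Fintype.card F ^ m = x ∧ T x ≠ 0) :
    ∃ h : F → ℕ, (∀ b, Nat.card {l : K // l ≠ 0 ∧ T (l ^ (Fintype.card F ^ m + 1)) = b} =
      (Fintype.card F ^ m + 1) * h b) ∧ ∀ b, b ≠ 0 → h b = Fintype.card F ^ (m - 1) := by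
  classical
  obtain ⟨p, hp⟩ := CharP.exists F
  obtain ⟨f, hpp, hq⟩ := FiniteField.card F p
  have : Fact p.Prime := ⟨hpp⟩
  have : CharP K p := charP_of_injective_algebraMap (algebraMap F K).injective p
  set q := Fintype.card F with hqdef
  have hq1 : 1 < q := Fintype.one_lt_card
  set N := q ^ m + 1 with hNdef
  let L : Submodule F K :=
    { carrier := {x | x ^ q ^ m = x}
      zero_mem' := zero_pow (pow_ne_zero m (by omega))
      add_mem' := fun {a b} (ha : a ^ q ^ m = a) (hb : b ^ q ^ m = b) => by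
        show (a + b) ^ q ^ m = a + b
        rw [hq, ← pow_mul, add_pow_char_pow, pow_mul, ← hq, ha, hb]
      smul_mem' := fun c a (ha : a ^ q ^ m = a) => by
        show (c • a) ^ q ^ m = c • a
        rw [Algebra.smul_def, mul_pow, ha, ← map_pow, hqdef, FiniteField.pow_card_pow] }
  have hmem : ∀ l : K, l ^ N ∈ L := fun l => by
    show (l ^ N) ^ q ^ m = l ^ N
    rw [← pow_mul, show N * q ^ m = q ^ (2 * m) + q ^ m by rw [hNdef, two_mul, pow_add]; ring, pow_add, ← hK,
      FiniteField.pow_card, hNdef, pow_succ, mul_comm]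
  let Lset : Finset K := Finset.univ.filter fun x => x ∈ L ∧ x ≠ 0
  have hLset : Lset.card + 1 ≤ q ^ m := by
    have hsub : insert (0 : K) Lset ⊆ (Polynomial.X ^ q ^ m - Polynomial.X : Polynomial K).roots.toFinset := by
      intro x hx
      have h1 : 1 < q ^ m := Nat.one_lt_pow (by omega) hq1
      rw [Multiset.mem_toFinset, Polynomial.mem_roots (FiniteField.X_pow_card_sub_X_ne_zero K h1)]
      rcases Finset.mem_insert.mp hx with rfl | hx
      · simp [zero_pow (pow_ne_zero m (show q ≠ 0 by omega))]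
      · have : x ^ q ^ m = x := (Finset.mem_filter.mp hx).2.1
        simp [this]
    have h1 := ((Finset.card_le_card hsub).trans (Multiset.toFinset_card_le _)).trans (Polynomial.card_roots' _)
    rw [FiniteField.X_pow_card_sub_X_natDegree_eq K (Nat.one_lt_pow (by omega) hq1),
      Finset.card_insert_of_notMem (by simp [Lset])] at h1
    exact h1
  have hfib_le : ∀ μ ∈ Lset, ((Finset.univ.erase (0 : K)).filter fun l => l ^ N = μ).card ≤ N := by
    intro μ _
    refine le_trans (Finset.card_le_card (t := (Polynomial.nthRoots N μ).toFinset) fun l hl => ?_)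
      ((Multiset.toFinset_card_le _).trans (Polynomial.card_nthRoots N μ))
    rw [Multiset.mem_toFinset, Polynomial.mem_nthRoots (by omega)]
    exact (Finset.mem_filter.mp hl).2
  have htot : (Finset.univ.erase (0 : K)).card = ∑ μ ∈ Lset, ((Finset.univ.erase (0 : K)).filter fun l => l ^ N = μ).card :=
    Finset.card_eq_sum_card_fiberwise fun l hl => by
      simp only [Finset.mem_coe, Lset, Finset.mem_filter, Finset.mem_univ, true_and]
      exact ⟨hmem l, pow_ne_zero _ (Finset.ne_of_mem_erase hl)⟩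
  rw [Finset.card_erase_of_mem (Finset.mem_univ _), Finset.card_univ, hK] at htot
  have hsq : q ^ (2 * m) - 1 = N * (q ^ m - 1) := by
    rw [hNdef, mul_comm 2 m, pow_mul, show (q ^ m) ^ 2 - 1 = (q ^ m) ^ 2 - 1 ^ 2 by norm_num, Nat.sq_sub_sq]
  have hle2 : ∑ μ ∈ Lset, ((Finset.univ.erase (0 : K)).filter fun l => l ^ N = μ).card ≤ Lset.card * N :=
    (Finset.sum_le_card_nsmul _ _ _ hfib_le).trans_eq (smul_eq_mul _ _)
  have hLcard : Lset.card + 1 = q ^ m := by
    rcases Nat.lt_or_ge (Lset.card + 1) (q ^ m) with h | h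
    · exfalso
      have h1 : (Lset.card + 1) * N ≤ (q ^ m - 1) * N := Nat.mul_le_mul_right _ (by omega)
      rw [Nat.succ_mul, mul_comm (q ^ m - 1)] at h1
      omega
    · omega
  have hfib : ∀ μ ∈ Lset, ((Finset.univ.erase (0 : K)).filter fun l => l ^ N = μ).card = N := by
    apply (Finset.sum_eq_sum_iff_of_le hfib_le).mp
    rw [Finset.sum_const, smul_eq_mul, ← htot, hsq, ← hLcard, Nat.add_sub_cancel, mul_comm]
  refine ⟨fun b => (Lset.filter fun μ => T μ = b).card, fun b => ?_, fun b hb => ?_⟩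
  · have e : Nat.card {l : K // l ≠ 0 ∧ T (l ^ N) = b} =
        ((Finset.univ.erase (0 : K)).filter fun l => T (l ^ N) = b).card := by
      rw [Nat.card_eq_fintype_card, Fintype.card_subtype]
      congr 1
      ext l
      simp
    have hmaps : Set.MapsTo (fun l : K => l ^ N)
        ↑((Finset.univ.erase (0 : K)).filter fun l => T (l ^ N) = b) ↑(Lset.filter fun μ => T μ = b) := by
      intro l hl
      simp only [Finset.mem_coe, Finset.mem_filter, Finset.mem_erase, Lset, Finset.mem_univ, true_and] at hl ⊢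
      exact ⟨⟨hmem l, pow_ne_zero _ hl.1.1⟩, hl.2⟩
    have hin : ∀ μ ∈ Lset.filter (fun μ => T μ = b),
        (((Finset.univ.erase (0 : K)).filter fun l => T (l ^ N) = b).filter fun l => l ^ N = μ).card = N := by
      intro μ hμ
      refine Eq.trans ?_ (hfib μ (Finset.mem_filter.mp hμ).1)
      congr 1
      ext l
      simp only [Finset.mem_filter]
      constructor
      · exact fun h => ⟨h.1.1, h.2⟩
      · exact fun h => ⟨⟨h.1, by rw [h.2]; exact (Finset.mem_filter.mp hμ).2⟩, h.2⟩
    rw [e, Finset.card_eq_sum_card_fiberwise hmaps, Finset.sum_congr rfl hin, Finset.sum_const, smul_eq_mul,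
      mul_comm]
  · obtain ⟨x, hx, hTx⟩ := hT
    let _ : Fintype L := Fintype.ofFinite _
    have hcardL : Fintype.card L = q ^ m := by
      rw [← hLcard, ← Finset.card_insert_of_notMem (show (0 : K) ∉ Lset by simp [Lset]), Fintype.card_subtype]
      congr 1
      ext y
      rcases eq_or_ne y 0 with rfl | hy
      · simp
      · simp [Lset, hy]
    have hrange : LinearMap.range (T.domRestrict L) = ⊤ := by
      rcases Ideal.eq_bot_or_top (LinearMap.range (T.domRestrict L) : Ideal F) with h | h
      · exfalso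
        have := LinearMap.range_eq_bot.mp h
        exact hTx (LinearMap.congr_fun this ⟨x, hx⟩)
      · exact h
    have hfibre : ∀ c : F, Nat.card {y : L // T y.1 = c} = Nat.card (LinearMap.ker (T.domRestrict L)) := by
      intro c
      obtain ⟨z, hz⟩ := LinearMap.range_eq_top.mp hrange c
      have hz' : T z.1 = c := hz
      refine Nat.card_congr
        { toFun := fun y => ⟨y.1 - z, by simp [LinearMap.mem_ker, y.2, hz']⟩
          invFun := fun w => ⟨w.1 + z, by
            have hw : T w.1.1 = 0 := w.2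
            simp [hw, hz']⟩
          left_inv := fun y => by simp
          right_inv := fun w => by simp }
    have hker : q * Nat.card (LinearMap.ker (T.domRestrict L)) = q ^ m := by
      rw [← hcardL, ← Nat.card_eq_fintype_card (α := L),
        ← Nat.card_congr (Equiv.sigmaFiberEquiv fun y : L => T y.1), Nat.card_sigma,
        Finset.sum_congr rfl (fun c _ => hfibre c), Finset.sum_const, Finset.card_univ, smul_eq_mul]
    have hsplit : q ^ m = q * q ^ (m - 1) := by rw [← pow_succ', Nat.sub_add_cancel hm]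
    rw [hsplit] at hker
    show (Lset.filter fun μ => T μ = b).card = q ^ (m - 1)
    rw [← Nat.eq_of_mul_eq_mul_left (by omega) hker, ← hfibre b, ← Fintype.card_coe, ← Nat.card_eq_fintype_card]
    refine Nat.card_congr
      { toFun := fun y => ⟨⟨y.1, (Finset.mem_filter.mp (Finset.mem_filter.mp y.2).1).2.1⟩, (Finset.mem_filter.mp y.2).2⟩
        invFun := fun y => ⟨y.1.1, Finset.mem_filter.mpr ⟨Finset.mem_filter.mpr ⟨Finset.mem_univ _, y.1.2,
          fun h0 => hb (by rw [← y.2, h0, map_zero])⟩, y.2⟩⟩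
        left_inv := fun y => rfl
        right_inv := fun y => rfl }

/-- The main obstruction. -/
theorem not_mem_commutator {G : Type*} [Group G] (Φ : G →* End F V) (hinj : Function.Injective Φ)
    (Q : QuadraticForm F V) (hQ : ∀ x, (∀ y, QuadraticMap.polar Q x y = 0) → x = 0)
    (hiso : ∀ g x, Q (Φ g x) = Q x) (hdet : ∀ g ∈ commutator G, LinearMap.det (Φ g) = 1)
    {p : ℕ} [Fact p.Prime] [CharP F p] (h2 : (2 : F) ≠ 0) {m : ℕ} (hm : 2 ≤ m) (hV : finrank F V = 2 * m + 3)
    {r : ℕ} [Fact r.Prime] (hr : orderOf (Fintype.card F : ZMod r) = 2 * m) {g : G}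
    (hg : orderOf g = p * (Fintype.card F ^ m + 1)) : g ∉ commutator G := by
  classical
  intro hgmem
  set q := Fintype.card F with hqdef
  set N := q ^ m + 1 with hNdef
  have hq1 : 1 < q := Fintype.one_lt_card
  have hpp : p.Prime := Fact.out
  have hrp : r.Prime := Fact.out
  have hpq : p ∣ q := by
    have h := FiniteField.cast_card_eq_zero F
    rwa [CharP.cast_eq_zero_iff F p] at h
  have hp3 : 3 ≤ p := by
    rcases hpp.eq_two_or_odd with rfl | hodd
    · exact absurd (CharP.cast_eq_zero F 2) (by simpa using h2)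
    · have := hpp.two_le; omega
  have hcop : p.Coprime N := by
    rw [hpp.coprime_iff_not_dvd, hNdef, ← Nat.dvd_add_iff_right (dvd_pow hpq (by omega))]
    exact hpp.not_dvd_one
  have hNeven : Even N := by
    have hqodd : Odd q := by
      obtain ⟨f, -, hf⟩ := FiniteField.card F p
      rw [hqdef, hf]
      exact (hpp.odd_of_ne_two (by omega)).pow
    exact hqodd.pow.add_odd odd_one
  have hrN : r ∣ N := by
    rw [← ZMod.natCast_eq_zero_iff, hNdef]
    push_cast
    have h1 : (q : ZMod r) ^ (2 * m) = 1 := hr ▸ pow_orderOf_eq_one _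
    rw [mul_comm, pow_mul] at h1
    rcases sq_eq_one_iff.mp h1 with h | h
    · have := Nat.le_of_dvd (by omega) (orderOf_dvd_of_pow_eq_one h)
      omega
    · rw [h, neg_add_cancel]
  have hrF : (r : F) ≠ 0 := by
    rw [ne_eq, CharP.cast_eq_zero_iff F p, Nat.prime_dvd_prime_iff_eq hpp hrp]
    rintro rfl
    obtain ⟨c, hc⟩ := hpq
    have h0 : (q : ZMod p) = 0 := by rw [hc, Nat.cast_mul, ZMod.natCast_self, zero_mul]
    rw [h0, orderOf_zero] at hr
    omega
  set s := g ^ p with hs
  set u := g ^ N with hu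
  have hg0 : orderOf g ≠ 0 := by rw [hg]; exact Nat.mul_ne_zero hpp.ne_zero (by omega)
  have hos : orderOf s = N := by
    rw [hs, orderOf_pow' g hpp.ne_zero, hg, Nat.gcd_mul_right_left, Nat.mul_div_cancel_left _ hpp.pos]
  have hou : orderOf u = p := by
    rw [hu, orderOf_pow' g (show N ≠ 0 by omega), hg, Nat.gcd_mul_left_left, Nat.mul_div_cancel _ (by omega)]
  set t := s ^ (N / r) with ht
  have hot : orderOf t = r := by
    rw [ht, orderOf_pow' s (Nat.div_pos (Nat.le_of_dvd (by omega) hrN) hrp.pos).ne', hos,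
      Nat.gcd_eq_right (Nat.div_dvd_of_dvd hrN), Nat.div_div_self hrN (by omega)]
  have hTr : Φ t ^ r = 1 := by rw [← map_pow, ← hot, pow_orderOf_eq_one, map_one]
  set T := Φ t with hT
  have hTiso : ∀ x, Q (T x) = Q x := hiso t
  let C : Subgroup G := Subgroup.centralizer {t}
  have hsC : s ∈ C := Subgroup.mem_centralizer_singleton_iff.mpr (by
    rw [ht, ← pow_succ, ← pow_succ'])
  have huC : u ∈ C := Subgroup.mem_centralizer_singleton_iff.mpr (by
    rw [ht, hu, hs, ← pow_mul, ← pow_add, ← pow_add, add_comm])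
  have hcommT : ∀ c : C, ∀ x, Φ c.1 (T x) = T (Φ c.1 x) := fun c x => by
    rw [hT, ← Module.End.mul_apply, ← map_mul, Subgroup.mem_centralizer_singleton_iff.mp c.2, map_mul]
    rfl
  set U := fixSp T with hU
  set W := movSp T with hW
  have hUinv : ∀ c : C, ∀ x ∈ U, Φ c.1 x ∈ U := fun c x hx => by
    rw [hU, mem_fixSp] at hx ⊢
    rw [← hcommT, hx]
  have hWinv : ∀ c : C, ∀ x ∈ W, Φ c.1 x ∈ W := fun c x hx => by
    obtain ⟨z, rfl⟩ := hx
    refine ⟨Φ c.1 z, ?_⟩
    rw [LinearMap.sub_apply, LinearMap.sub_apply, Module.End.one_apply, Module.End.one_apply, map_sub, hcommT]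
  let ρU : C →* End F U := resHom (Φ.comp C.subtype) U hUinv
  let ρW : C →* End F W := resHom (Φ.comp C.subtype) W hWinv
  have hcompl : IsCompl U W := isCompl_fix_mov T hTr hrF
  have hUW : ∀ x ∈ U, ∀ y ∈ W, QuadraticMap.polar Q x y = 0 := fun x hx y hy => polar_fix_mov T Q hTiso hx hy
  have hsplit : ∀ z : V, ∃ x ∈ U, ∃ y ∈ W, x + y = z := fun z =>
    Submodule.mem_sup.mp (by rw [hcompl.sup_eq_top]; trivial)
  have hone : ∀ c : C, ρU c = 1 → ρW c = 1 → (c : G) = 1 := by
    intro c h1 h2'
    apply hinj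
    rw [map_one]
    refine LinearMap.ext fun z => ?_
    obtain ⟨x, hx, y, hy, rfl⟩ := hsplit z
    have e1 : Φ c.1 x = x := congrArg Subtype.val (LinearMap.congr_fun h1 ⟨x, hx⟩)
    have e2 : Φ c.1 y = y := congrArg Subtype.val (LinearMap.congr_fun h2' ⟨y, hy⟩)
    rw [map_add, e1, e2, Module.End.one_apply]
  -- dimensions
  have hWirr : ∀ X : Submodule F V, X ≤ W → (∀ x ∈ X, T x ∈ X) → 2 * m ∣ finrank F X := fun X hXW hX => by
    rw [← hr]
    refine order_dvd_finrank T hTr X hX fun x hx hfx => ?_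
    exact Submodule.disjoint_def.mp hcompl.disjoint x ((mem_fixSp T).mpr hfx) (hXW hx)
  have hsum := Submodule.finrank_add_eq_of_isCompl hcompl
  rw [hV] at hsum
  have hWdim : finrank F W = 2 * m := by
    obtain ⟨k, hk⟩ := hWirr W le_rfl fun x hx => hWinv ⟨t, Subgroup.mem_centralizer_singleton_iff.mpr rfl⟩ x hx
    have hk0 : k ≠ 0 := by
      rintro rfl
      rw [mul_zero, Submodule.finrank_eq_zero] at hk
      have ht1 : t = 1 := hinj (by
        rw [map_one, ← hT]
        refine LinearMap.ext fun z => sub_eq_zero.mp ((Submodule.mem_bot F).mp ?_)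
        rw [← hk]
        exact ⟨z, rfl⟩)
      rw [ht1, orderOf_one] at hot
      exact hrp.one_lt.ne hot
    have hk2 : k < 2 := by
      by_contra hge
      push Not at hge
      nlinarith [Nat.zero_le (finrank F U)]
    rw [hk, show k = 1 by omega, mul_one]
  have hUdim : finrank F U = 3 := by omega
  have hWsimple : ∀ X : Submodule F V, X ≤ W → (∀ x ∈ X, T x ∈ X) → X = ⊥ ∨ X = W := fun X hXW hX => by
    obtain ⟨k, hk⟩ := hWirr X hXW hX
    rcases Nat.eq_zero_or_pos k with rfl | hk0
    · exact Or.inl (Submodule.finrank_eq_zero.mp (by simpa using hk))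
    · refine Or.inr (Submodule.eq_of_le_of_finrank_le hXW ?_)
      rw [hWdim, hk]
      exact Nat.le_mul_of_pos_right _ hk0
  set tW := ρW ⟨t, Subgroup.mem_centralizer_singleton_iff.mpr rfl⟩ with htW
  have hinjW : ∀ A : End F W, A * tW = tW * A → A ≠ 0 → Function.Injective A := by
    intro A hA hA0
    rw [← LinearMap.ker_eq_bot]
    rcases hWsimple ((LinearMap.ker A).map W.subtype) (Submodule.map_subtype_le W _) (by
      rintro _ ⟨w, hw, rfl⟩
      refine ⟨tW w, ?_, rfl⟩
      have hw' : A w = 0 := hw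
      show A (tW w) = 0
      rw [← Module.End.mul_apply, hA, Module.End.mul_apply, hw', map_zero]) with h | h
    · exact Submodule.map_injective_of_injective W.injective_subtype (h.trans (Submodule.map_bot _).symm)
    · exfalso
      apply hA0
      refine LinearMap.ext fun w => ?_
      obtain ⟨w', hw', he⟩ := (h.symm ▸ w.2 : w.1 ∈ (LinearMap.ker A).map W.subtype)
      rw [← Subtype.ext he]
      exact hw'
  have hcomW : ∀ c : C, ρW c * tW = tW * ρW c := fun c =>
    LinearMap.ext fun x => Subtype.ext (hcommT c x.1)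
  have hWne : Nontrivial W := Module.nontrivial_of_finrank_pos (R := F) (by omega)
  have hUne : Nontrivial U := Module.nontrivial_of_finrank_pos (R := F) (by omega)
  have : CharP (End F W) p := charP_of_injective_algebraMap (algebraMap F (End F W)).injective p
  have : CharP (End F U) p := charP_of_injective_algebraMap (algebraMap F (End F U)).injective p
  -- the unipotent part is trivial on `W`
  have hup : (⟨u, huC⟩ : C) ^ p = 1 := Subtype.ext (show u ^ p = 1 by rw [← hou, pow_orderOf_eq_one])
  have huW : ρW ⟨u, huC⟩ = 1 := by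
    set A := ρW ⟨u, huC⟩ - 1 with hA
    by_contra hne
    have hA0 : A ≠ 0 := sub_ne_zero.mpr hne
    have hAp : A ^ p = 0 := by
      rw [hA, sub_pow_char_of_commute p (Commute.one_right _), one_pow, ← map_pow, hup, map_one, sub_self]
    have hAinj := hinjW A (by rw [hA, sub_mul, mul_sub, hcomW, one_mul, mul_one]) hA0
    have : ∀ i, Function.Injective (A ^ i : End F W) := fun i => by
      induction i with
      | zero => exact fun _ _ h => h
      | succ i ih => rw [pow_succ]; exact ih.comp hAinj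
    obtain ⟨w, hw⟩ := exists_ne (0 : W)
    exact hw (this p (by rw [hAp]; rfl))
  -- the form on `U`
  have hUnd : ∀ x : U, (∀ y : U, QuadraticMap.polar Q x.1 y.1 = 0) → x = 0 := fun x hx => by
    refine Subtype.ext (hQ x.1 fun z => ?_)
    obtain ⟨a, ha, b, hb, rfl⟩ := hsplit z
    rw [QuadraticMap.polar_add_right, hx ⟨a, ha⟩, hUW x.1 x.2 b hb, add_zero]
  have hM : IsNilpotent (ρU ⟨u, huC⟩ - 1) := ⟨p, by
    rw [sub_pow_char_of_commute p (Commute.one_right _), one_pow, ← map_pow, hup, map_one, sub_self]⟩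
  have hune : ρU ⟨u, huC⟩ ≠ 1 := fun h => by
    have : u = 1 := hone ⟨u, huC⟩ h huW
    rw [this, orderOf_one] at hou
    exact hpp.one_lt.ne hou
  obtain ⟨hM2, hM3⟩ := regular_of_unipotent (fun x y : U => QuadraticMap.polar Q x.1 y.1)
    (fun x y z => by simp [QuadraticMap.polar_add_left]) (fun a x y => by simp [QuadraticMap.polar_smul_left])
    (fun x y => QuadraticMap.polar_comm _ _ _) hUnd h2 hUdim (ρU ⟨u, huC⟩)
    (fun x y => polar_map Q (Φ u) (hiso u) x.1 y.1) hM hune
  set M := ρU ⟨u, huC⟩ - 1 with hMdef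
  obtain ⟨a, b, c, hA⟩ := commutant_regular hUdim M hM2 hM3 (ρU ⟨s, hsC⟩) (by
    rw [hMdef, mul_sub, sub_mul, ← map_mul, ← map_mul, one_mul, mul_one]
    congr 2
    exact Subtype.ext (by show s * u = u * s; rw [hs, hu, ← pow_add, ← pow_add, add_comm]))
  have hAp : ρU ⟨s, hsC⟩ ^ p = a ^ p • 1 := by
    have hcm : Commute M (b • 1 + c • M) :=
      ((Commute.one_right M).smul_right b).add_right ((Commute.refl M).smul_right c)
    rw [hA, add_pow_char_of_commute p ((Commute.one_left _).smul_left a), smul_pow, one_pow, hcm.mul_pow,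
      pow_eq_zero_of_le hp3 hM3, zero_mul, add_zero]
  obtain ⟨k, hk⟩ := exists_pow_eq_self_of_coprime (show p.Coprime (orderOf s) by rw [hos]; exact hcop)
  set a' := (a ^ p) ^ k with ha'
  have hsU : ρU ⟨s, hsC⟩ = a' • 1 := by
    have h1 : ((⟨s, hsC⟩ : C) ^ p) ^ k = ⟨s, hsC⟩ := Subtype.ext hk
    rw [← h1, map_pow, map_pow, hAp, smul_pow, one_pow, ha']
  have hsx : ∀ x ∈ U, Φ s x = a' • x := fun x hx => congrArg Subtype.val (LinearMap.congr_fun hsU ⟨x, hx⟩)
  have hfixW : ∀ x, Φ s x = x → T x = x := by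
    intro x hx
    have : ∀ i : ℕ, Φ (s ^ i) x = x := by
      intro i
      induction i with
      | zero => rw [pow_zero, map_one]; rfl
      | succ i ih => rw [pow_succ, map_mul, Module.End.mul_apply, hx, ih]
    exact this _
  have ha1 : a' = 1 := by
    obtain ⟨z, hz⟩ : ∃ z : U, Q z.1 ≠ 0 := by
      by_contra hall
      push Not at hall
      obtain ⟨z, hz⟩ := exists_ne (0 : U)
      refine hz (hUnd z fun y => ?_)
      rw [QuadraticMap.polar, hall z, hall y, show Q (z.1 + y.1) = 0 from hall (z + y), sub_zero, sub_zero]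
    have hsq : a' ^ 2 = 1 := by
      have h := hiso s z.1
      rw [hsx z.1 z.2, QuadraticMap.map_smul, smul_eq_mul] at h
      rw [pow_two]
      exact mul_right_cancel₀ hz (h.trans (one_mul _).symm)
    rcases sq_eq_one_iff.mp hsq with h | h
    · exact h
    exfalso
    set S := Φ s with hS
    set S' := Φ s⁻¹ with hS'
    have hd0 : LinearMap.det (S - 1) ≠ 0 := by
      intro h0
      obtain ⟨x, hx, hx0⟩ := (Submodule.ne_bot_iff _).mp (LinearMap.bot_lt_ker_of_det_eq_zero h0).ne'
      rw [LinearMap.mem_ker, LinearMap.sub_apply, Module.End.one_apply, sub_eq_zero] at hx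
      have hxU : x ∈ U := (mem_fixSp T).mpr (hfixW x hx)
      have h3 := hsx x hxU
      rw [hx, h, neg_one_smul, eq_neg_iff_add_eq_zero, ← two_smul F, smul_eq_zero] at h3
      exact hx0 (h3.resolve_left h2)
    let β : V ≃ₗ[F] Module.Dual F V := LinearEquiv.ofBijective (QuadraticMap.polarBilin Q) (by
      refine (fun hi => ⟨hi, (LinearMap.injective_iff_surjective_of_finrank_eq_finrank
        Subspace.dual_finrank_eq.symm).mp hi⟩) ?_
      rw [← LinearMap.ker_eq_bot, LinearMap.ker_eq_bot']
      exact fun x hx => hQ x fun y => LinearMap.congr_fun hx y)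
    have hadj : S' - 1 = β.symm.conj ((S - 1).dualMap) := by
      refine LinearMap.ext fun x => ?_
      rw [LinearEquiv.conj_apply_apply, LinearEquiv.symm_symm]
      apply β.injective
      rw [LinearEquiv.apply_symm_apply]
      refine LinearMap.ext fun y => ?_
      show QuadraticMap.polar Q (S' x - x) y = QuadraticMap.polar Q x (S y - y)
      rw [QuadraticMap.polar_sub_left, QuadraticMap.polar_sub_right]
      congr 1
      calc QuadraticMap.polar Q (S' x) y = QuadraticMap.polar Q (S (S' x)) (S y) :=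
            (polar_map Q S (hiso s) _ _).symm
        _ = _ := by rw [← Module.End.mul_apply, hS, hS', ← map_mul, mul_inv_cancel, map_one]; rfl
    have hfac : S - 1 = S * ((-1 : F) • (S' - 1)) := by
      rw [mul_smul_comm, mul_sub, mul_one, hS, hS', ← map_mul, mul_inv_cancel, map_one, neg_one_smul, neg_sub]
    have hdc : LinearMap.det (β.symm.conj ((S - 1).dualMap)) = LinearMap.det ((S - 1).dualMap) := by
      rw [LinearEquiv.conj_apply, LinearMap.comp_assoc]
      exact LinearMap.det_conj _ _
    have hsdet : LinearMap.det S = 1 := hdet s (Subgroup.pow_mem _ hgmem p)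
    have h3 := congrArg LinearMap.det hfac
    rw [map_mul, hsdet, one_mul, LinearMap.det_smul, hadj, hdc, LinearMap.det_dualMap, hV,
      (Odd.neg_one_pow ⟨m + 1, by ring⟩), neg_one_mul, eq_neg_iff_add_eq_zero, ← two_mul] at h3
    exact hd0 ((mul_eq_zero.mp h3).resolve_left h2)
  have hsU1 : ∀ (i : ℕ), ρU ((⟨s, hsC⟩ : C) ^ i) = 1 := fun i => by
    rw [map_pow, hsU, ha1, one_smul, one_pow]
  have hsfix : ∀ x ∈ U, Φ s x = x := fun x hx => by rw [hsx x hx, ha1, one_smul]
  have hsemi : ∀ (i : ℕ) (w : W), w ≠ 0 → ρW ((⟨s, hsC⟩ : C) ^ i) w = w → N ∣ i := by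
    intro i w hw hfix
    have h0 : ρW ((⟨s, hsC⟩ : C) ^ i) - 1 = 0 := by
      by_contra hne
      exact hw (hinjW _ (by rw [sub_mul, mul_sub, hcomW, one_mul, mul_one]) hne (by
        rw [LinearMap.sub_apply, Module.End.one_apply, hfix, sub_self, map_zero]))
    have h1 : s ^ i = 1 := hone ((⟨s, hsC⟩ : C) ^ i) (hsU1 i) (sub_eq_zero.mp h0)
    rw [← hos]
    exact orderOf_dvd_of_pow_eq_one h1
  -- the field generated by `s` on `W`
  let D : Subalgebra F (End F W) := Algebra.adjoin F {ρW ⟨s, hsC⟩}
  have hDgen : ρW ⟨s, hsC⟩ ∈ D := Algebra.self_mem_adjoin_singleton F _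
  have htD : tW ∈ D := by
    have : tW = ρW ⟨s, hsC⟩ ^ (N / r) := by rw [htW, ← map_pow]; congr 1
    rw [this]
    exact Subalgebra.pow_mem D hDgen _
  have hDcomm : ∀ x y : D, x * y = y * x := by
    intro x y
    refine Subtype.ext ?_
    have hx' : x.1 ∈ (Polynomial.aeval (R := F) (ρW ⟨s, hsC⟩)).range := by
      rw [← Algebra.adjoin_singleton_eq_range_aeval]; exact x.2
    have hy' : y.1 ∈ (Polynomial.aeval (R := F) (ρW ⟨s, hsC⟩)).range := by
      rw [← Algebra.adjoin_singleton_eq_range_aeval]; exact y.2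
    obtain ⟨P, hP⟩ := hx'
    obtain ⟨R, hR⟩ := hy'
    show x.1 * y.1 = y.1 * x.1
    rw [← hP, ← hR]
    exact (((Commute.all P R).map (Polynomial.aeval (ρW ⟨s, hsC⟩)).toRingHom)).eq
  let _ : CommRing D := { (inferInstance : Ring D) with mul_comm := hDcomm }
  have hDinj : ∀ x : D, x ≠ 0 → Function.Injective (x.1 : End F W) := fun x hx =>
    hinjW x.1 (congrArg Subtype.val (hDcomm x ⟨tW, htD⟩)) fun h => hx (Subtype.ext h)
  have : Nontrivial D := ⟨0, 1, fun h => by
    obtain ⟨w, hw⟩ := exists_ne (0 : W)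
    exact hw (LinearMap.congr_fun (congrArg Subtype.val h) w).symm⟩
  have : NoZeroDivisors D := ⟨fun {x y} h => by
    refine or_iff_not_imp_left.mpr fun hx => Subtype.ext (LinearMap.ext fun w => ?_)
    refine hDinj x hx ?_
    show x.1 (y.1 w) = x.1 0
    rw [map_zero, ← Module.End.mul_apply]
    exact LinearMap.congr_fun (congrArg Subtype.val h) w⟩
  have : IsDomain D := NoZeroDivisors.to_isDomain _
  have : Finite (End F W) := Module.finite_of_finite F
  let _ : Fintype D := Fintype.ofFinite _
  let _ : Field D := Fintype.fieldOfDomain D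
  obtain ⟨w₀, hw₀⟩ := exists_ne (0 : W)
  let e₀ : D →ₗ[F] W :=
    { toFun := fun x => x.1 w₀
      map_add' := fun x y => rfl
      map_smul' := fun a x => rfl }
  have he₀inj : Function.Injective e₀ := by
    rw [← LinearMap.ker_eq_bot, LinearMap.ker_eq_bot']
    intro x hx
    by_contra hx0
    exact hw₀ (hDinj x hx0 (hx.trans (map_zero x.1).symm))
  have he₀surj : Function.Surjective e₀ := by
    intro w
    rcases hWsimple ((LinearMap.range e₀).map W.subtype) (Submodule.map_subtype_le W _) (by
      rintro _ ⟨_, ⟨x, rfl⟩, rfl⟩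
      exact ⟨tW (e₀ x), ⟨⟨tW, htD⟩ * x, rfl⟩, rfl⟩) with h | h
    · exfalso
      have h1 : W.subtype (e₀ 1) ∈ (LinearMap.range e₀).map W.subtype :=
        Submodule.mem_map_of_mem (LinearMap.mem_range_self e₀ 1)
      rw [h] at h1
      exact hw₀ (Subtype.ext ((Submodule.mem_bot F).mp h1))
    · obtain ⟨_, ⟨x, rfl⟩, he⟩ := (h.symm ▸ w.2 : w.1 ∈ (LinearMap.range e₀).map W.subtype)
      exact ⟨x, Subtype.ext he⟩
  let e : D ≃ₗ[F] W := LinearEquiv.ofBijective e₀ ⟨he₀inj, he₀surj⟩
  have hDcard : Fintype.card D = q ^ (2 * m) := by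
    have := e.finrank_eq
    rw [Module.card_eq_pow_finrank (K := F) (V := D), this, hWdim]
  obtain ⟨f, -, hqf⟩ := FiniteField.card F p
  have : CharP D p := charP_of_injective_algebraMap (algebraMap F D).injective p
  have hadjD : ∀ (x : D) (v w : W), QuadraticMap.polar Q (x.1 v).1 w.1 =
      QuadraticMap.polar Q v.1 ((x ^ q ^ m : D).1 w).1 := by
    have hmain : ∀ (x : End F W) (hx : x ∈ D), ∀ v w : W, QuadraticMap.polar Q (x v).1 w.1 =
        QuadraticMap.polar Q v.1 ((⟨x, hx⟩ ^ q ^ m : D).1 w).1 := by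
      intro x hx
      induction hx using Algebra.adjoin_induction with
      | mem x hx =>
        obtain rfl : x = ρW ⟨s, hsC⟩ := hx
        intro v w
        rw [SubmonoidClass.coe_pow, ← map_pow]
        show QuadraticMap.polar Q (Φ s v.1) w.1 = QuadraticMap.polar Q v.1 (Φ (s ^ q ^ m) w.1)
        rw [← polar_map Q (Φ s) (hiso s) v.1 (Φ (s ^ q ^ m) w.1), ← Module.End.mul_apply, ← map_mul, ← pow_succ',
          ← hNdef, ← hos, pow_orderOf_eq_one, map_one, Module.End.one_apply]
      | algebraMap a =>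
        intro v w
        have h1 : (⟨algebraMap F (End F W) a, Subalgebra.algebraMap_mem _ a⟩ : D) ^ q ^ m = algebraMap F D a := by
          show (algebraMap F D a) ^ q ^ m = _
          rw [← map_pow, FiniteField.pow_card_pow]
        rw [h1]
        show QuadraticMap.polar Q (a • v.1) w.1 = QuadraticMap.polar Q v.1 (a • w.1)
        rw [QuadraticMap.polar_smul_left, QuadraticMap.polar_smul_right]
      | add x y hx hy ihx ihy =>
        intro v w
        have h1 : ((⟨x + y, add_mem hx hy⟩ : D) ^ q ^ m) = (⟨x, hx⟩ : D) ^ q ^ m + (⟨y, hy⟩ : D) ^ q ^ m := by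
          show ((⟨x, hx⟩ : D) + ⟨y, hy⟩) ^ q ^ m = _
          rw [hqdef, hqf, ← pow_mul, add_pow_char_pow]
        rw [h1, LinearMap.add_apply, Submodule.coe_add, QuadraticMap.polar_add_left, ihx, ihy,
          Subalgebra.coe_add, LinearMap.add_apply, Submodule.coe_add, QuadraticMap.polar_add_right]
      | mul x y hx hy ihx ihy =>
        intro v w
        have h1 : ((⟨x * y, mul_mem hx hy⟩ : D) ^ q ^ m) = (⟨y, hy⟩ : D) ^ q ^ m * (⟨x, hx⟩ : D) ^ q ^ m := by
          show ((⟨x, hx⟩ : D) * ⟨y, hy⟩) ^ q ^ m = _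
          rw [mul_pow, mul_comm]
        rw [h1, Module.End.mul_apply, ihx, ihy]
        rfl
    exact fun x v w => hmain x.1 x.2 v w
  let Tf : D →ₗ[F] F := ((QuadraticMap.polarBilin Q w₀.1).comp W.subtype).comp e₀
  have hTf : ∀ x : D, Tf (x ^ N) = 2 * Q (e x).1 := by
    intro x
    rw [← polar_self2]
    show QuadraticMap.polar Q w₀.1 ((x ^ N : D).1 w₀).1 = QuadraticMap.polar Q (x.1 w₀).1 (x.1 w₀).1
    rw [hadjD, hNdef, pow_succ]
    rfl
  have hTne : ∃ x : D, x ^ q ^ m = x ∧ Tf x ≠ 0 := by
    by_contra hall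
    push Not at hall
    have hQ0 : ∀ w : W, Q w.1 = 0 := fun w => by
      obtain ⟨x, rfl⟩ := e.surjective w
      have h := hTf x
      rw [hall (x ^ N) (by rw [← pow_mul, show N * q ^ m = q ^ (2 * m) + q ^ m by rw [hNdef, two_mul, pow_add]; ring,
        pow_add, ← hDcard, FiniteField.pow_card, hNdef, pow_succ, mul_comm])] at h
      exact (mul_eq_zero.mp h.symm).resolve_left h2
    refine hw₀ (Subtype.ext (hQ w₀.1 fun z => ?_))
    obtain ⟨x, hx, y, hy, rfl⟩ := hsplit z
    rw [QuadraticMap.polar_add_right, QuadraticMap.polar_comm, hUW x hx w₀.1 w₀.2, zero_add, QuadraticMap.polar,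
      hQ0 w₀, hQ0 ⟨y, hy⟩, show Q (w₀.1 + y) = 0 from hQ0 (w₀ + ⟨y, hy⟩), sub_zero, sub_zero]
  obtain ⟨h, hh, hhb⟩ := norm_fibre_count (F := F) hDcard (by omega) Tf hTne
  have : Finite V := Module.finite_of_finite F
  have hfcount : ∀ b : F, Nat.card {w : W // w ≠ 0 ∧ Q w.1 = b} = N * h (2 * b) := by
    intro b
    rw [← hh (2 * b)]
    refine (Nat.card_congr (e.toEquiv.subtypeEquiv fun x => ?_)).symm
    show (x ≠ 0 ∧ Tf (x ^ N) = 2 * b) ↔ (e x ≠ 0 ∧ Q (e x).1 = b)
    rw [hTf, mul_right_inj' h2, e.map_ne_zero_iff]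
  -- the permutation of the vectors of value one
  let A := {x : V // Q x = 1}
  let _ : Fintype A := Fintype.ofFinite _
  let _ : Fintype U := Fintype.ofFinite _
  let act : G →* Equiv.Perm A :=
    { toFun := fun a =>
        { toFun := fun x => ⟨Φ a x.1, by rw [hiso]; exact x.2⟩
          invFun := fun x => ⟨Φ a⁻¹ x.1, by rw [hiso]; exact x.2⟩
          left_inv := fun x => Subtype.ext (by
            show Φ a⁻¹ (Φ a x.1) = x.1
            rw [← Module.End.mul_apply, ← map_mul, inv_mul_cancel, map_one]; rfl)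
          right_inv := fun x => Subtype.ext (by
            show Φ a (Φ a⁻¹ x.1) = x.1
            rw [← Module.End.mul_apply, ← map_mul, mul_inv_cancel, map_one]; rfl) }
      map_one' := Equiv.ext fun x => Subtype.ext (by show Φ 1 x.1 = x.1; rw [map_one]; rfl)
      map_mul' := fun a b => Equiv.ext fun x => Subtype.ext (by
        show Φ (a * b) x.1 = Φ a (Φ b x.1); rw [map_mul]; rfl) }
  have hactpow : ∀ (i : ℕ) (x : A), ((act s ^ i) x).1 = Φ (s ^ i) x.1 := fun i x => by rw [← map_pow]; rfl
  have hfixiff : ∀ x : A, act s x = x ↔ x.1 ∈ U := fun x => by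
    constructor
    · exact fun hx => (mem_fixSp T).mpr (hfixW x.1 (congrArg Subtype.val hx))
    · exact fun hx => Subtype.ext (hsfix x.1 hx)
  have hfree : ∀ x : A, act s x ≠ x → ∀ l, (act s ^ l) x = x → N ∣ l := by
    intro x hx l hl
    obtain ⟨a, ha, b, hb, hab⟩ := hsplit x.1
    have hb0 : (⟨b, hb⟩ : W) ≠ 0 := fun h0 => by
      have : b = 0 := congrArg Subtype.val h0
      rw [this, add_zero] at hab
      exact hx ((hfixiff x).mpr (hab ▸ ha))
    refine hsemi l ⟨b, hb⟩ hb0 (Subtype.ext ?_)
    have h1 : Φ (s ^ l) x.1 = x.1 := (hactpow l x).symm.trans (congrArg Subtype.val hl)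
    have h3 : Φ (s ^ l) a = a := congrArg Subtype.val (LinearMap.congr_fun (hsU1 l) ⟨a, ha⟩)
    rw [← hab, map_add, h3] at h1
    exact add_left_cancel h1
  let k := ∑ x : U, h (2 * (1 - Q x.1))
  have hcount : Nat.card {x : A // act s x ≠ x} = N * k := by
    have key : ∀ (x : U) (w : W), Q (x.1 + w.1) = Q x.1 + Q w.1 := fun x w => by
      have := hUW x.1 x.2 w.1 w.2
      rw [QuadraticMap.polar] at this
      linear_combination this
    let E : (Σ x : U, {w : W // w ≠ 0 ∧ Q w.1 = 1 - Q x.1}) → {x : A // act s x ≠ x} := fun p =>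
      ⟨⟨p.1.1 + p.2.1.1, by rw [key, p.2.2.2]; ring⟩, fun hfix => p.2.2.1 (Subtype.ext
        (Submodule.disjoint_def.mp hcompl.disjoint _ (by
          have := U.sub_mem ((hfixiff _).mp hfix) p.1.2
          rwa [add_sub_cancel_left] at this) p.2.1.2))⟩
    have hE : Function.Bijective E := by
      constructor
      · rintro ⟨x, w, hw⟩ ⟨x', w', hw'⟩ heq
        have h1 : x.1 + w.1 = x'.1 + w'.1 := congrArg (fun z => z.1.1) heq
        have h3 : x.1 - x'.1 = w'.1 - w.1 := by
          rw [sub_eq_sub_iff_add_eq_add, add_comm w'.1]; exact h1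
        have h4 : x.1 - x'.1 = 0 := Submodule.disjoint_def.mp hcompl.disjoint _ (U.sub_mem x.2 x'.2)
          (h3 ▸ W.sub_mem w'.2 w.2)
        obtain rfl : x = x' := Subtype.ext (sub_eq_zero.mp h4)
        obtain rfl : w = w' := Subtype.ext (sub_eq_zero.mp (h3 ▸ h4)).symm
        rfl
      · rintro ⟨⟨z, hz⟩, hzne⟩
        obtain ⟨a, ha, b, hb, hab⟩ := hsplit z
        refine ⟨⟨⟨a, ha⟩, ⟨b, hb⟩, fun h0 => ?_, ?_⟩, Subtype.ext (Subtype.ext hab)⟩
        · have : b = 0 := congrArg Subtype.val h0
          rw [this, add_zero] at hab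
          exact hzne ((hfixiff _).mpr (hab ▸ ha))
        · have := key ⟨a, ha⟩ ⟨b, hb⟩
          rw [show a + b = z from hab, hz] at this
          linear_combination -this
    rw [← Nat.card_congr (Equiv.ofBijective E hE), Nat.card_sigma,
      Finset.sum_congr rfl (fun x _ => hfcount (1 - Q x.1)), ← Finset.mul_sum]
  have hkodd : Odd k := by
    rw [← ZMod.natCast_eq_one_iff_odd, Nat.cast_sum, ← Finset.add_sum_erase _ _ (Finset.mem_univ (0 : U))]
    have hzero : ∑ x ∈ Finset.univ.erase (0 : U), (h (2 * (1 - Q x.1)) : ZMod 2) = 0 := by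
      refine Finset.sum_involution (fun x _ => -x) (fun x _ => ?_) (fun x hx _ heq => ?_) (fun x hx => ?_)
        (fun x _ => neg_neg x)
      · rw [Submodule.coe_neg, QuadraticMap.map_neg, CharTwo.add_self_eq_zero]
      · refine Finset.ne_of_mem_erase hx ?_
        have h5 : (2 : F) • x = 0 := by rw [two_smul]; nth_rewrite 1 [← heq]; exact neg_add_cancel x
        exact (smul_eq_zero.mp h5).resolve_left h2
      · exact Finset.mem_erase.mpr ⟨neg_ne_zero.mpr (Finset.ne_of_mem_erase hx), Finset.mem_univ _⟩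
    rw [hzero, add_zero, Submodule.coe_zero, QuadraticMap.map_zero, sub_zero, mul_one, hhb 2 h2, Nat.cast_pow]
    obtain ⟨c, hc⟩ : Odd (Fintype.card F) := by
      rw [hqf]
      exact (hpp.odd_of_ne_two (by omega)).pow
    rw [hc]
    push_cast
    rw [show (2 : ZMod 2) = 0 from rfl, zero_mul, zero_add, one_pow]
  have hsign : Equiv.Perm.sign (act s) = -1 := by
    rw [sign_of_semiregular (act s) (show 0 < N by omega) hNeven
      (by rw [← map_pow, ← hos, pow_orderOf_eq_one, map_one]) hfree hcount, hkodd.neg_one_pow]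
  have hker := Abelianization.commutator_subset_ker (Equiv.Perm.sign.comp act) (Subgroup.pow_mem _ hgmem p)
  rw [MonoidHom.mem_ker, MonoidHom.comp_apply, ← hs, hsign] at hker
  exact absurd hker (by decide)

end CfsgLib.OrthOrders
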